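import Groth.Agent.Hens.GRingFinite
import Groth.Agent.Hensel.Completion
import Groth.Agent.S2470
import Groth.Agent.S2453
import Groth.Agent.RegLoc.Homological
import Groth.Agent.AdicFS.Basic
import Groth.Agent.AdicFlat.Fibre
import Groth.Agent.FBase.TensorAlgClosed

/-!
# Generic formal fibres of finite extensions of regular local rings in characteristic zero
-/

set_option autoImplicit false
set_option maxHeartbeats 4000000
set_option synthInstance.maxHeartbeats 100000
set_option linter.style.haveILetI false

universe u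

open IsLocalRing
open scoped TensorProduct

namespace Groth.Agent.JacAdic16.FiniteFormal

/-- Elements of the completion are approximated by elements of the ring. -/
theorem exists_sub_mem_pow {R : Type u} [CommRing R] [IsLocalRing R] [IsNoetherianRing R]
    (k : ℕ) (c : AdicCompletion (maximalIdeal R) R) :
    ∃ r : R, c - algebraMap R _ r ∈
      (maximalIdeal R ^ k).map (algebraMap R (AdicCompletion (maximalIdeal R) R)) := by
  obtain ⟨a, ha⟩ := Submodule.mkQ_surjective (maximalIdeal R ^ k • ⊤ : Submodule R R) (c.val k)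
  refine ⟨a, ?_⟩
  rw [← Submodule.restrictScalars_mem R, ← Ideal.smul_top_eq_map,
    AdicCompletion.pow_smul_top_eq_ker_eval (IsNoetherian.noetherian _), LinearMap.mem_ker,
    map_sub, sub_eq_zero]
  exact ha.symm

/-- Density of `L` in a ring generated by the images of a completion and of an algebra. -/
theorem dense_tensor {A B R L C : Type u} [CommRing A] [CommRing B] [Algebra A B] [CommRing R]
    [IsLocalRing R] [IsNoetherianRing R] [Algebra A R] [CommRing L] [IsLocalRing L] [CommRing C]
    [Algebra L C] (χ : AdicCompletion (maximalIdeal R) R ⊗[A] B →+* C) (φ : R →+* L) [IsLocalHom φ]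
    (ψ : B →+* L)
    (hR : ∀ r : R, χ (algebraMap R _ r ⊗ₜ 1) = algebraMap L C (φ r))
    (hB : ∀ b : B, χ (1 ⊗ₜ b) = algebraMap L C (ψ b))
    (k : ℕ) (t : AdicCompletion (maximalIdeal R) R ⊗[A] B) :
    ∃ a : L, χ t - algebraMap L C a ∈ (maximalIdeal L ^ k).map (algebraMap L C) := by
  induction t using TensorProduct.induction_on with
  | zero => exact ⟨0, by simp⟩
  | add x y hx hy =>
    obtain ⟨a, ha⟩ := hx
    obtain ⟨b, hb⟩ := hy
    exact ⟨a + b, by rw [map_add, map_add, add_sub_add_comm]; exact Ideal.add_mem _ ha hb⟩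
  | tmul c b =>
    obtain ⟨a, hca⟩ := exists_sub_mem_pow k c
    let ι : AdicCompletion (maximalIdeal R) R →+* AdicCompletion (maximalIdeal R) R ⊗[A] B :=
      Algebra.TensorProduct.includeLeftRingHom
    have hle : (maximalIdeal R ^ k).map (algebraMap R (AdicCompletion (maximalIdeal R) R)) ≤
        ((maximalIdeal L ^ k).map (algebraMap L C)).comap (χ.comp ι) := by
      rw [Ideal.map_le_iff_le_comap]
      intro r hr
      simp only [Ideal.mem_comap, RingHom.comp_apply]
      show χ (algebraMap R _ r ⊗ₜ 1) ∈ _
      rw [hR]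
      refine Ideal.mem_map_of_mem _ ?_
      have := Ideal.mem_map_of_mem φ hr
      rw [Ideal.map_pow] at this
      have h0 := (IsLocalRing.local_hom_TFAE φ).out 0 2
      exact Ideal.pow_right_mono (h0.mp ‹_›) k this
    refine ⟨φ a * ψ b, ?_⟩
    have h4 : χ (c ⊗ₜ b) - algebraMap L C (φ a * ψ b) = χ (ι (c - algebraMap R _ a)) * χ (1 ⊗ₜ b) := by
      rw [map_mul, ← hR, ← hB, map_sub, map_sub, sub_mul]
      simp only [ι, Algebra.TensorProduct.includeLeftRingHom_apply, ← map_mul,
        Algebra.TensorProduct.tmul_mul_tmul, mul_one, one_mul]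
    rw [h4]
    exact Ideal.mul_mem_right _ _ (hle hca)

/-- Density extends to a localization. -/
theorem dense_localization {L T C : Type u} [CommRing L] [IsLocalRing L] [CommRing T] [CommRing C]
    [IsLocalRing C] [Algebra L C] [IsLocalHom (algebraMap L C)] [Algebra T C] (N : Submonoid T)
    [IsLocalization N C] (k : ℕ)
    (hT : ∀ t : T, ∃ a, algebraMap T C t - algebraMap L C a ∈ (maximalIdeal L ^ k).map (algebraMap L C))
    (c : C) : ∃ a, c - algebraMap L C a ∈ (maximalIdeal L ^ k).map (algebraMap L C) := by
  obtain ⟨x, y, rfl⟩ := IsLocalization.exists_mk'_eq N c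
  obtain ⟨bx, hbx⟩ := hT x
  obtain ⟨by', hby⟩ := hT (y : T)
  have hy : IsUnit (algebraMap (T) C (y : T)) :=
    IsLocalization.map_units (M := N) C y
  by_cases hk : k = 0
  · exact ⟨0, by simp [hk, Ideal.map_top]⟩
  have hu : IsUnit by' := by
    refine isUnit_of_map_unit (algebraMap L C) _ ?_
    by_contra hnu
    have hJ : (maximalIdeal L ^ k).map (algebraMap L C) ≤ maximalIdeal C :=
      (Ideal.map_mono (Ideal.pow_le_self hk)).trans (IsLocalRing.map_maximalIdeal_le _)
    have h5 : algebraMap T C (y : T) ∈ maximalIdeal C := by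
      have := Ideal.add_mem _ (hJ hby) (show algebraMap L C by' ∈ maximalIdeal C from hnu)
      rwa [sub_add_cancel] at this
    exact h5 hy
  refine ⟨bx * ↑hu.unit⁻¹, ?_⟩
  have h6 : (IsLocalization.mk' C x y - algebraMap L C (bx * ↑hu.unit⁻¹)) *
      algebraMap T C (y : T) ∈ (maximalIdeal L ^ k).map (algebraMap L C) := by
    rw [sub_mul, IsLocalization.mk'_spec, map_mul]
    have h7 : algebraMap T C x -
        algebraMap L C bx * algebraMap L C ↑hu.unit⁻¹ * algebraMap T C (y : T) =
        (algebraMap T C x - algebraMap L C bx) -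
          algebraMap L C bx * algebraMap L C ↑hu.unit⁻¹ *
            (algebraMap T C (y : T) - algebraMap L C by') := by
      have h8 : algebraMap L C ↑hu.unit⁻¹ * algebraMap L C by' = 1 := by
        rw [← map_mul, hu.val_inv_mul, map_one]
      linear_combination (-algebraMap L C bx) * h8
    rw [h7]
    exact Ideal.sub_mem _ hbx (Ideal.mul_mem_left _ _ hby)
  have h9 := Ideal.mul_mem_right (↑hy.unit⁻¹ : C) _ h6
  rwa [mul_assoc, hy.mul_val_inv, mul_one] at h9

/-- A complete local flat algebra in which `L` is dense is the completion of `L`. -/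
theorem completion_equiv_of_dense {L C : Type u} [CommRing L] [IsLocalRing L] [IsNoetherianRing L]
    [CommRing C] [IsLocalRing C] [Algebra L C] [IsLocalHom (algebraMap L C)] [Module.Flat L C]
    [IsAdicComplete (maximalIdeal C) C]
    (hdense : ∀ (k : ℕ) (c : C), ∃ a, c - algebraMap L C a ∈ (maximalIdeal L ^ k).map (algebraMap L C)) :
    ∃ e : AdicCompletion (maximalIdeal L) L ≃+* C, ∀ a, e (algebraMap L _ a) = algebraMap L C a := by
  haveI := Module.FaithfullyFlat.of_flat_of_isLocalHom (A := L) (B := C)
  haveI : IsAdicComplete ((maximalIdeal L).map (algebraMap L C)) C := by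
    have hle := IsLocalRing.map_maximalIdeal_le (algebraMap L C)
    have heq : (maximalIdeal L).map (algebraMap L C) = maximalIdeal C := by
      refine le_antisymm hle fun x hx => ?_
      obtain ⟨a, ha⟩ := hdense 1 x
      rw [pow_one] at ha
      have ham : a ∈ maximalIdeal L := by
        intro hua
        have h := (maximalIdeal C).sub_mem hx (hle ha)
        rw [sub_sub_cancel] at h
        exact h (hua.map _)
      have h := Ideal.add_mem _ ha (Ideal.mem_map_of_mem _ ham)
      rwa [sub_add_cancel] at h
    rw [heq]; infer_instance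
  obtain ⟨e⟩ := Groth.Agent.Hensel.nonempty_completion_equiv (maximalIdeal L) C hdense
    fun k => (Ideal.comap_map_eq_self_of_faithfullyFlat _).le
  exact ⟨e.toRingEquiv, fun a => e.commutes a⟩

/-- The completion of the localization of a finite algebra as a localization of the base change to the
completion of the base. -/
theorem exists_completion_model {A B : Type u} [CommRing A] [IsNoetherianRing A] [CommRing B]
    [Algebra A B] [Module.Finite A B] (n : Ideal B) [n.IsPrime] (m : Ideal A) [m.IsPrime]
    (hnm : n.comap (algebraMap A B) = m) :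
    ∃ (M : Ideal (AdicCompletion (maximalIdeal (Localization.AtPrime m)) (Localization.AtPrime m) ⊗[A] B))
      (_ : M.IsPrime)
      (e : AdicCompletion (maximalIdeal (Localization.AtPrime n)) (Localization.AtPrime n) ≃+*
        Localization.AtPrime M),
      ∀ b : B, e (algebraMap (Localization.AtPrime n) _ (algebraMap B (Localization.AtPrime n) b)) =
        algebraMap (AdicCompletion (maximalIdeal (Localization.AtPrime m)) (Localization.AtPrime m) ⊗[A] B)
          (Localization.AtPrime M) (1 ⊗ₜ b) := by
  subst hnm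
  set m := n.comap (algebraMap A B)
  let R := Localization.AtPrime m
  let L := Localization.AtPrime n
  haveI : IsNoetherianRing R := IsLocalization.isNoetherianRing m.primeCompl _ inferInstance
  haveI : IsNoetherianRing B := IsNoetherianRing.of_finite A B
  haveI : IsNoetherianRing L := IsLocalization.isNoetherianRing n.primeCompl _ inferInstance
  let Rc := AdicCompletion (maximalIdeal R) R
  haveI : IsNoetherianRing Rc :=
    RegLoc.AdicNoeth.isNoetherianRing_adicCompletion _ (IsNoetherian.noetherian _)
  let T := Rc ⊗[A] B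
  let φ : R →+* L := Localization.localRingHom m n (algebraMap A B) rfl
  haveI : IsLocalHom φ := Localization.isLocalHom_localRingHom m n (algebraMap A B) rfl
  let θR : Rc →+* ResidueField L :=
    (ResidueField.map φ).comp (AdicCompletion.evalOneₐ (maximalIdeal R)).toRingHom
  let θ₁ : Rc →ₐ[A] ResidueField L :=
    { θR with
      commutes' := fun a => by
        show ResidueField.map φ (AdicCompletion.evalOneₐ (maximalIdeal R) (algebraMap A Rc a)) = _
        rw [IsScalarTower.algebraMap_apply A R Rc, AlgHom.commutes]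
        show residue L (φ (algebraMap A R a)) = residue L (algebraMap A L a)
        rw [Localization.localRingHom_to_map, ← IsScalarTower.algebraMap_apply] }
  let θ₂ : B →ₐ[A] ResidueField L :=
    { (residue L).comp (algebraMap B L) with
      commutes' := fun a => by
        show residue L (algebraMap B L (algebraMap A B a)) = residue L (algebraMap A L a)
        rw [← IsScalarTower.algebraMap_apply] }
  let θ : T →ₐ[A] ResidueField L := Algebra.TensorProduct.lift θ₁ θ₂ fun _ _ => Commute.all _ _
  let M : Ideal T := RingHom.ker θ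
  haveI hMp : M.IsPrime := RingHom.ker_isPrime θ
  have hθB : ∀ b : B, θ (1 ⊗ₜ b) = residue L (algebraMap B L b) := fun b => by
    rw [Algebra.TensorProduct.lift_tmul, map_one, one_mul]; rfl
  have hθR : ∀ c : Rc, θ (c ⊗ₜ 1) = θR c := fun c => by
    rw [Algebra.TensorProduct.lift_tmul, map_one, mul_one]; rfl
  haveI : IsNoetherianRing T := IsNoetherianRing.of_finite Rc T
  haveI : M.IsMaximal := by
    refine Ideal.isMaximal_of_isIntegral_of_isMaximal_comap (R := Rc) M ?_
    have hker : M.comap (algebraMap Rc T) = maximalIdeal Rc := by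
      refine ((maximalIdeal.isMaximal Rc).eq_of_le Ideal.IsPrime.ne_top' fun c hc => ?_).symm
      show θ (c ⊗ₜ 1) = 0
      rw [hθR]
      show ResidueField.map φ (AdicCompletion.evalOneₐ (maximalIdeal R) c) = 0
      have h1 : c ∈ RingHom.ker (AdicCompletion.evalOneₐ (maximalIdeal R)).toRingHom := by
        rw [AdicCompletion.ker_evalOneₐ_eq_map _ (IsNoetherian.noetherian _),
          ← AdicCompletion.maximalIdeal_eq_map]
        exact hc
      exact (congrArg (ResidueField.map φ) (RingHom.mem_ker.mp h1)).trans (map_zero _)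
    rw [hker]; infer_instance
  obtain ⟨-, hcomplete⟩ := Groth.Agent.Hens.finite_and_isAdicComplete_localization (R₀ := Rc) M
  let C := Localization.AtPrime M
  haveI := hcomplete
  haveI : IsNoetherianRing C := IsLocalization.isNoetherianRing M.primeCompl C inferInstance
  letI algBT : Algebra B T := Algebra.TensorProduct.rightAlgebra
  haveI : IsScalarTower B T C := inferInstance
  have hMB : ∀ b : B, algebraMap B T b ∈ M ↔ b ∈ n := fun b => by
    show θ ((1 : Rc) ⊗ₜ b) = 0 ↔ _
    rw [hθB, residue_eq_zero_iff]
    exact IsLocalization.AtPrime.to_map_mem_maximal_iff L n b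
  have hunit : ∀ y : n.primeCompl, IsUnit (algebraMap B C y) := fun y =>
    IsLocalization.map_units (M := M.primeCompl) C (⟨algebraMap B T y, fun h => y.2 ((hMB _).mp h)⟩ : M.primeCompl)
  letI algLC : Algebra L C := (IsLocalization.lift (M := n.primeCompl) (S := L) hunit).toAlgebra
  haveI : IsScalarTower B L C := .of_algebraMap_eq fun b => (IsLocalization.lift_eq hunit b).symm
  haveI hloc : IsLocalHom (algebraMap L C) := ⟨fun x hx => by
    obtain ⟨b, y, rfl⟩ := IsLocalization.exists_mk'_eq n.primeCompl x
    by_contra hnu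
    have hb : b ∈ n := by
      rw [← IsLocalization.AtPrime.to_map_mem_maximal_iff L n, ← IsLocalization.mk'_spec L b y]
      exact Ideal.mul_mem_right _ _ hnu
    have h1 : algebraMap B C b ∈ maximalIdeal C :=
      (IsLocalization.AtPrime.to_map_mem_maximal_iff C M _).mpr ((hMB b).mpr hb)
    refine h1 ?_
    rw [IsScalarTower.algebraMap_apply B L C, ← IsLocalization.mk'_spec L b y, map_mul,
      ← IsScalarTower.algebraMap_apply B L C]
    exact hx.mul (hunit y)⟩
  haveI : Module.Flat A Rc := Module.Flat.trans A R Rc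
  haveI : Module.Flat B T := Module.Flat.isBaseChange (R := A) (S := B) (M := Rc) _
    (Algebra.IsPushout.symm inferInstance : Algebra.IsPushout A B Rc T).out
  haveI : Module.Flat B C := Module.Flat.trans B T C
  haveI : Module.Flat L C := (Module.flat_iff_of_isLocalization L n.primeCompl C).mpr inferInstance
  -- density
  have hAC : ∀ r : R, algebraMap T C (algebraMap R Rc r ⊗ₜ 1) = algebraMap L C (φ r) := fun r => by
    let g : R →+* C := (algebraMap T C).comp ((algebraMap Rc T).comp (algebraMap R Rc))
    show g r = ((algebraMap L C).comp φ) r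
    refine DFunLike.congr_fun (IsLocalization.ringHom_ext m.primeCompl (RingHom.ext fun a => ?_)) r
    show algebraMap T C (algebraMap Rc T (algebraMap R Rc (algebraMap A R a))) = algebraMap L C (φ (algebraMap A R a))
    rw [Localization.localRingHom_to_map, ← IsScalarTower.algebraMap_apply B L C,
      ← IsScalarTower.algebraMap_apply A R Rc, IsScalarTower.algebraMap_apply B T C]
    congr 1
    show algebraMap A Rc a ⊗ₜ[A] (1 : B) = (1 : Rc) ⊗ₜ[A] algebraMap A B a
    rw [Algebra.algebraMap_eq_smul_one, Algebra.algebraMap_eq_smul_one, TensorProduct.smul_tmul]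
  have hBC : ∀ b : B, algebraMap T C ((1 : Rc) ⊗ₜ[A] b) = algebraMap L C (algebraMap B L b) := fun b => by
    rw [← IsScalarTower.algebraMap_apply B L C]
    exact (IsScalarTower.algebraMap_apply B T C b).symm
  obtain ⟨e, he⟩ := completion_equiv_of_dense (L := L) (C := C) fun k c =>
    dense_localization (L := L) (T := T) (C := C) M.primeCompl k
      (fun t => dense_tensor (L := L) (C := C) (algebraMap T C) φ (algebraMap B L) hAC hBC k t) c
  refine ⟨M, hMp, e, fun b => ?_⟩
  exact (he _).trans (hBC b).symm

/-- Local rings of the base change at primes over zero are regular. -/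
theorem isRegularLocalRing_of_comap_eq_bot {A B W : Type u} [CommRing A] [IsDomain A] [CharZero A]
    [CommRing B] [IsDomain B] [Algebra A B] [Module.Finite A B]
    (hinj : Function.Injective (algebraMap A B)) [CommRing W] [IsRegularLocalRing W] [Algebra A W]
    [IsNoetherianRing (W ⊗[A] B)]
    (Q : Ideal (W ⊗[A] B)) [Q.IsPrime] (hQ : ∀ b : B, (1 : W) ⊗ₜ[A] b ∈ Q → b = 0) :
    IsRegularLocalRing (Localization.AtPrime Q) := by
  let TQ := Localization.AtPrime Q
  haveI : Module.IsTorsionFree A B := Module.isTorsionFree_iff_faithfulSMul.mpr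
    ((faithfulSMul_iff_algebraMap_injective A B).mpr hinj)
  haveI : FaithfulSMul A B := (faithfulSMul_iff_algebraMap_injective A B).mpr hinj
  let K := FractionRing A
  let L₀ := FractionRing B
  letI : Algebra K L₀ := FractionRing.liftAlgebra A L₀
  haveI : CharZero K := charZero_of_injective_algebraMap (IsFractionRing.injective A K)
  haveI : Algebra.FormallySmooth K L₀ := RegLoc.formallySmooth_of_charZero K L₀
  have hFS : Algebra.FormallySmooth W TQ := by
    refine Algebra.FormallySmooth.iff_comp_surjective.mpr fun C _ _ J hJ ψ => ?_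
    have hJn : IsNilpotent J := ⟨2, hJ⟩
    haveI : IsLocalHom (Ideal.Quotient.mk J) := by
      refine ⟨fun x hx => ?_⟩
      obtain ⟨y, hy⟩ := hx.exists_right_inv
      obtain ⟨y, rfl⟩ := Ideal.Quotient.mk_surjective y
      rw [← map_mul, ← map_one (Ideal.Quotient.mk J), Ideal.Quotient.eq] at hy
      have h2 : IsNilpotent (x * y - 1) := ⟨2, by
        have := Ideal.pow_mem_pow hy 2
        rwa [hJ, Ideal.mem_bot] at this⟩
      have h3 := h2.isUnit_one_add
      rw [add_sub_cancel] at h3
      exact isUnit_of_mul_isUnit_left h3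
    letI : Algebra A C := ((algebraMap W C).comp (algebraMap A W)).toAlgebra
    haveI : IsScalarTower A W C := .of_algebraMap_eq' rfl
    let ιB : B →+* W ⊗[A] B := (Algebra.TensorProduct.includeRight : B →ₐ[A] W ⊗[A] B).toRingHom
    let ψB : B →+* C ⧸ J := ψ.toRingHom.comp ((algebraMap (W ⊗[A] B) TQ).comp ιB)
    have hψBA : ∀ a : A, ψB (algebraMap A B a) = Ideal.Quotient.mk J (algebraMap A C a) := fun a => by
      show ψ (algebraMap (W ⊗[A] B) TQ ((1 : W) ⊗ₜ[A] algebraMap A B a)) = _
      rw [show (1 : W) ⊗ₜ[A] algebraMap A B a = algebraMap W (W ⊗[A] B) (algebraMap A W a) by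
        show _ = algebraMap A W a ⊗ₜ[A] (1 : B)
        rw [Algebra.algebraMap_eq_smul_one, Algebra.algebraMap_eq_smul_one, TensorProduct.smul_tmul],
        ← IsScalarTower.algebraMap_apply W (W ⊗[A] B) TQ, ψ.commutes]
      rfl
    have hB0 : ∀ b : B, b ≠ 0 → IsUnit (ψB b) := fun b hb =>
      (IsLocalization.map_units (M := Q.primeCompl) TQ
        (⟨ιB b, fun h => hb (hQ b h)⟩ : Q.primeCompl)).map ψ
    have hA0 : ∀ a : nonZeroDivisors A, IsUnit (algebraMap A C a) := fun a => by
      refine (isUnit_map_iff (Ideal.Quotient.mk J) _).mp ?_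
      rw [← hψBA]
      exact hB0 _ ((map_ne_zero_iff _ hinj).mpr (nonZeroDivisors.ne_zero a.2))
    letI : Algebra K C := (IsLocalization.lift (M := nonZeroDivisors A) (S := K) hA0).toAlgebra
    haveI : IsScalarTower A K C := .of_algebraMap_eq fun a => (IsLocalization.lift_eq hA0 a).symm
    let ψ₁ : L₀ →+* C ⧸ J := IsLocalization.lift (M := nonZeroDivisors B) (g := ψB)
      fun b => hB0 b (nonZeroDivisors.ne_zero b.2)
    let ψL : L₀ →ₐ[K] C ⧸ J :=
      { ψ₁ with
        commutes' := fun x => DFunLike.congr_fun (IsLocalization.ringHom_ext (nonZeroDivisors A)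
          (j := ψ₁.comp (algebraMap K L₀)) (k := algebraMap K (C ⧸ J)) (RingHom.ext fun a => by
            show ψ₁ (algebraMap K L₀ (algebraMap A K a)) = algebraMap K (C ⧸ J) (algebraMap A K a)
            rw [← IsScalarTower.algebraMap_apply A K L₀, IsScalarTower.algebraMap_apply A B L₀,
              IsLocalization.lift_eq, hψBA]
            show _ = Ideal.Quotient.mk J (algebraMap K C (algebraMap A K a))
            rw [← IsScalarTower.algebraMap_apply A K C])) x }
    obtain ⟨v, hv⟩ := Algebra.FormallySmooth.comp_surjective K L₀ J hJ ψL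
    let gB : B →ₐ[A] C :=
      { v.toRingHom.comp (algebraMap B L₀) with
        commutes' := fun a => by
          show v (algebraMap B L₀ (algebraMap A B a)) = _
          rw [← IsScalarTower.algebraMap_apply A B L₀, IsScalarTower.algebraMap_apply A K L₀,
            v.commutes, ← IsScalarTower.algebraMap_apply A K C] }
    let gT : W ⊗[A] B →ₐ[W] C :=
      Algebra.TensorProduct.lift (Algebra.ofId W C) gB fun _ _ => Commute.all _ _
    have hgT : (Ideal.Quotient.mkₐ W J).comp gT = ψ.comp (IsScalarTower.toAlgHom W _ TQ) :=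
      Algebra.TensorProduct.ext (AlgHom.ext fun w => by
        show Ideal.Quotient.mk J (gT (w ⊗ₜ[A] (1 : B))) = ψ (algebraMap W (W ⊗[A] B) w |> algebraMap _ TQ)
        rw [Algebra.TensorProduct.lift_tmul, map_one, mul_one, ← IsScalarTower.algebraMap_apply, ψ.commutes]
        rfl) (AlgHom.ext fun b => by
        show Ideal.Quotient.mk J (gT ((1 : W) ⊗ₜ[A] b)) = ψB b
        rw [Algebra.TensorProduct.lift_tmul, map_one, one_mul]
        show Ideal.Quotient.mk J (v (algebraMap B L₀ b)) = ψB b
        rw [show Ideal.Quotient.mk J (v (algebraMap B L₀ b)) = ψL (algebraMap B L₀ b) from DFunLike.congr_fun hv _]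
        exact IsLocalization.lift_eq _ b)
    have hu : ∀ s : Q.primeCompl, IsUnit (gT s) := fun s => by
      refine (isUnit_map_iff (Ideal.Quotient.mk J) _).mp ?_
      rw [show Ideal.Quotient.mk J (gT s) = ψ (algebraMap _ TQ (s : W ⊗[A] B)) from
        DFunLike.congr_fun hgT (s : W ⊗[A] B)]
      exact (IsLocalization.map_units TQ s).map ψ
    refine ⟨IsLocalization.liftAlgHom (S := TQ) hu,
      AlgHom.coe_ringHom_injective (IsLocalization.ringHom_ext Q.primeCompl (RingHom.ext fun t => ?_))⟩
    show Ideal.Quotient.mk J (IsLocalization.liftAlgHom (S := TQ) hu (algebraMap _ TQ t)) = ψ (algebraMap _ TQ t)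
    rw [IsLocalization.liftAlgHom_apply, IsLocalization.lift_eq]
    exact DFunLike.congr_fun hgT t
  let η : Ideal W := Q.comap (algebraMap W (W ⊗[A] B))
  let Wη := Localization.AtPrime η
  haveI : IsRegularLocalRing Wη := RegLoc.Homological.isRegularLocalRing_localization η
  have hηu : ∀ w : η.primeCompl, IsUnit (algebraMap W TQ w) := fun w => by
    rw [IsScalarTower.algebraMap_apply W (W ⊗[A] B) TQ]
    exact IsLocalization.map_units (M := Q.primeCompl) TQ (⟨algebraMap W (W ⊗[A] B) w, w.2⟩ : Q.primeCompl)
  letI : Algebra Wη TQ := (IsLocalization.lift (M := η.primeCompl) (S := Wη) hηu).toAlgebra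
  haveI : IsScalarTower W Wη TQ := .of_algebraMap_eq fun w => (IsLocalization.lift_eq hηu w).symm
  haveI : IsNoetherianRing TQ := IsLocalization.isNoetherianRing Q.primeCompl _ inferInstance
  haveI : IsLocalHom (algebraMap Wη TQ) := ⟨fun x hx => by
    obtain ⟨w, y, rfl⟩ := IsLocalization.exists_mk'_eq η.primeCompl x
    by_contra hnu
    have hw : w ∈ η := by
      rw [← IsLocalization.AtPrime.to_map_mem_maximal_iff Wη η, ← IsLocalization.mk'_spec Wη w y]
      exact Ideal.mul_mem_right _ _ hnu
    have h1 : algebraMap W TQ w ∈ maximalIdeal TQ := by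
      rw [IsScalarTower.algebraMap_apply W (W ⊗[A] B) TQ]
      exact (IsLocalization.AtPrime.to_map_mem_maximal_iff TQ Q _).mpr hw
    refine h1 ?_
    rw [IsScalarTower.algebraMap_apply W Wη TQ, ← IsLocalization.mk'_spec Wη w y, map_mul,
      ← IsScalarTower.algebraMap_apply W Wη TQ]
    exact hx.mul (hηu y)⟩
  haveI := hFS
  haveI : Algebra.FormallySmooth Wη TQ := Algebra.FormallySmooth.localization_base η.primeCompl
  have hA' : CAlgX.IsAdicFormallySmooth Wη TQ (maximalIdeal TQ) := AdicFS.Basic.of_formallySmooth _
  haveI := AdicFlat.flat_of_isAdicFormallySmooth hA'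
  haveI : IsLocalRing (TQ ⧸ (maximalIdeal Wη).map (algebraMap Wη TQ)) :=
    RegLoc.isLocalRing_quotient (AdicFlat.map_maximalIdeal_le' Wη TQ)
  have hT := (S2470.result (A := Wη) (B := TQ)).out 2 1
  refine (hT.mp ?_).1
  exact ⟨inferInstance, AdicFlat.isRegularLocalRing_quotient hA', inferInstance⟩

end Groth.Agent.JacAdic16.FiniteFormal
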