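import Groth.Agent.S9259
import Groth.Agent.AdicFlat.Fibre
import Mathlib

/-!
# Adic formal smoothness of generic formal fibres
-/

set_option autoImplicit false
set_option linter.style.haveILetI false

universe u

open IsLocalRing

namespace Groth.Agent.JacAdic16.FormalFibre

/-- The local rings of the generic fibre of a regular homomorphism are formally smooth over the
fraction field. -/
theorem adic_fractionRing_of_isRegularHom {B T K : Type u} [CommRing B] [IsDomain B]
    [IsNoetherianRing B] [CommRing T] [IsNoetherianRing T] [Algebra B T]
    (hreg : CAlg.IsRegularHom B T) (q : Ideal T) [q.IsPrime] (hq : q.comap (algebraMap B T) = ⊥)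
    [Field K] [Algebra B K] [IsFractionRing B K]
    [Algebra K (Localization.AtPrime q)] [IsScalarTower B K (Localization.AtPrime q)] :
    CAlgX.IsAdicFormallySmooth K (Localization.AtPrime q) (maximalIdeal (Localization.AtPrime q)) := by
  set r := q.comap (algebraMap B T) with hr
  haveI : IsNoetherianRing (Localization.AtPrime r) :=
    IsLocalization.isNoetherianRing r.primeCompl _ inferInstance
  haveI : IsNoetherianRing (Localization.AtPrime q) :=
    IsLocalization.isNoetherianRing q.primeCompl _ inferInstance
  letI algR : Algebra (Localization.AtPrime r) (Localization.AtPrime q) :=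
    (Localization.localRingHom r q (algebraMap B T) rfl).toAlgebra
  haveI : IsLocalHom (algebraMap (Localization.AtPrime r) (Localization.AtPrime q)) :=
    Localization.isLocalHom_localRingHom r q (algebraMap B T) rfl
  have h1 : CAlg.IsRegularHom (Localization.AtPrime r) (Localization.AtPrime q) :=
    (Groth.Agent.S9259.result B T).1.1 hreg q
  haveI := h1.1
  have h2 := AdicFlat.isAdicFormallySmooth_of_geometricallyRegular (h1.2 (maximalIdeal _)).2
  have hM : r.primeCompl = nonZeroDivisors B := by
    ext x
    show x ∉ r ↔ x ∈ nonZeroDivisors B
    rw [hq, Ideal.mem_bot, mem_nonZeroDivisors_iff_ne_zero]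
  haveI : IsLocalization r.primeCompl K := hM ▸ (inferInstance : IsLocalization (nonZeroDivisors B) K)
  let e : Localization.AtPrime r ≃+* K :=
    (IsLocalization.algEquiv r.primeCompl (Localization.AtPrime r) K).toRingEquiv
  have hc : ∀ x, (RingEquiv.refl (Localization.AtPrime q)) (algebraMap (Localization.AtPrime r) (Localization.AtPrime q) x) =
      algebraMap K (Localization.AtPrime q) (e x) := fun x => by
    refine DFunLike.congr_fun (IsLocalization.ringHom_ext r.primeCompl
      (j := algebraMap (Localization.AtPrime r) (Localization.AtPrime q))
      (k := (algebraMap K (Localization.AtPrime q)).comp e.toRingHom) (RingHom.ext fun b => ?_)) x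
    show Localization.localRingHom r q (algebraMap B T) rfl (algebraMap B _ b) =
      algebraMap K (Localization.AtPrime q) (IsLocalization.algEquiv r.primeCompl (Localization.AtPrime r) K
        (algebraMap B _ b))
    rw [Localization.localRingHom_to_map, AlgEquiv.commutes, ← IsScalarTower.algebraMap_apply,
      ← IsScalarTower.algebraMap_apply]
  have h3 := AdicFlat.isAdicFormallySmooth_of_ringEquiv e (RingEquiv.refl _) hc _ h2
  rwa [show (RingEquiv.refl (Localization.AtPrime q)).toRingHom = RingHom.id _ from rfl, Ideal.map_id] at h3

end Groth.Agent.JacAdic16.FormalFibre
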