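import Groth.Agent.JacAdic16.Main
import Groth.Agent.AdicFS.Basic
import Groth.Agent.S2463
import Groth.Agent.S2036
import Groth.Agent.S2453
import Groth.Agent.S4512
import Groth.Agent.CAlg48.GeomReg
import Groth.Agent.FBase.TensorAlgClosed

/-!
# Formal smoothness and geometric regularity of finite type algebras over separable extensions
-/

set_option autoImplicit false
set_option maxHeartbeats 1000000
set_option linter.style.haveILetI false

universe u

open IsLocalRing
open scoped TensorProduct

namespace Groth.Agent.JacAdic16.GeomReg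

/-- Geometrically regular Noetherian local algebras over a field are adically formally smooth. -/
theorem adic_of_geomRegular {k A : Type u} [Field k] [CommRing A] [IsLocalRing A] [IsNoetherianRing A]
    [Algebra k A] (h : CAlg.IsGeometricallyRegular k A) :
    CAlgX.IsAdicFormallySmooth k A (maximalIdeal A) := by
  obtain ⟨q, hq⟩ := CharP.exists k
  rcases CharP.char_is_prime_or_zero k q with hprime | h0
  · haveI : Fact q.Prime := ⟨hprime⟩
    exact (S2036.result q).mp h
  · subst h0
    haveI : CharZero k := CharP.charP_to_charZero k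
    haveI := h k inferInstance
    haveI : IsRegularRing A :=
      IsRegularRing.of_ringEquiv (Algebra.TensorProduct.lid k A).toRingEquiv
    haveI : IsRegularLocalRing A := IsRegularLocalRing.of_isRegularRing_of_isLocalRing A
    haveI : Algebra.IsGeometricallyReduced k (ResidueField A) :=
      FBase.TensorAlgClosed.isGeometricallyReduced_of_perfectField
    exact (S2453.result.out 3 0).mp ‹_›

/-- Geometric regularity localises. -/
theorem localization {k C : Type u} [Field k] [CommRing C] [Algebra k C]
    (h : CAlg.IsGeometricallyRegular k C) (p : Ideal C) [p.IsPrime] :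
    CAlg.IsGeometricallyRegular k (Localization.AtPrime p) := by
  intro k' _ _ hfin
  haveI := h k' hfin
  let Ap := Localization.AtPrime p
  letI : Algebra (k' ⊗[k] C) (k' ⊗[k] Ap) :=
    (Algebra.TensorProduct.map (AlgHom.id k k') (IsScalarTower.toAlgHom k C Ap)).toAlgebra
  haveI : IsScalarTower k' (k' ⊗[k] C) (k' ⊗[k] Ap) :=
    .of_algebraMap_eq <| by intro; simp [RingHom.algebraMap_toAlgebra]
  haveI := IsLocalization.tensorProduct_tensorProduct_right k k' p.primeCompl Ap
    (by ext; simp [RingHom.algebraMap_toAlgebra])
  exact CAlg48.GeomReg.isRegularRing_of_isLocalization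
    (p.primeCompl.map (Algebra.TensorProduct.includeRight (R := k) (A := k') (B := C))) _

/-- Geometric regularity can be tested on local rings. -/
theorem of_localizations {k C : Type u} [Field k] [CommRing C] [IsNoetherianRing C] [Algebra k C]
    (h : ∀ (p : Ideal C) [p.IsPrime], CAlg.IsGeometricallyRegular k (Localization.AtPrime p)) :
    CAlg.IsGeometricallyRegular k C := by
  intro k' _ _ hfin
  let R := k' ⊗[k] C
  haveI : IsNoetherianRing R :=
    haveI : IsNoetherianRing (C ⊗[k] k') := IsNoetherianRing.of_finite C (C ⊗[k] k')
    isNoetherianRing_of_ringEquiv (C ⊗[k] k') (Algebra.TensorProduct.comm k C k').toRingEquiv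
  refine isRegularRing_iff.mpr fun Q hQ => ?_
  let ι : C →ₐ[k] R := Algebra.TensorProduct.includeRight
  let p : Ideal C := Q.comap ι.toRingHom
  haveI : p.IsPrime := Ideal.comap_isPrime ι.toRingHom Q
  haveI hreg := h p k' hfin
  let Ap := Localization.AtPrime p
  letI : Algebra (k' ⊗[k] C) (k' ⊗[k] Ap) :=
    (Algebra.TensorProduct.map (AlgHom.id k k') (IsScalarTower.toAlgHom k C Ap)).toAlgebra
  haveI : IsScalarTower k' (k' ⊗[k] C) (k' ⊗[k] Ap) :=
    .of_algebraMap_eq <| by intro; simp [RingHom.algebraMap_toAlgebra]
  haveI := IsLocalization.tensorProduct_tensorProduct_right k k' p.primeCompl Ap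
    (by ext; simp [RingHom.algebraMap_toAlgebra])
  let M : Submonoid R := p.primeCompl.map (Algebra.TensorProduct.includeRight (R := k) (A := k') (B := C))
  let S' := k' ⊗[k] Ap
  have hdisj : Disjoint (M : Set R) (Q : Set R) := by
    rw [Set.disjoint_left]
    rintro _ ⟨c, hc, rfl⟩ hx
    exact hc hx
  haveI hQ' : (Q.map (algebraMap R S')).IsPrime :=
    IsLocalization.isPrime_of_isPrime_disjoint M S' _ hQ hdisj
  haveI h1 := IsLocalization.isLocalization_isLocalization_atPrime_isLocalization M
    (Localization.AtPrime (Q.map (algebraMap R S'))) (Q.map (algebraMap R S'))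
  have hu : (Q.map (algebraMap R S')).under R = Q :=
    IsLocalization.under_map_of_isPrime_disjoint M _ hQ hdisj
  haveI : IsLocalization Q.primeCompl (Localization.AtPrime (Q.map (algebraMap R S'))) := by
    have : ((Q.map (algebraMap R S')).under R).primeCompl = Q.primeCompl := by ext; simp [hu]
    exact this ▸ h1
  haveI := IsRegularRing.isRegularLocalRing_localization (R := S') (Q.map (algebraMap R S'))
  exact IsRegularLocalRing.of_ringEquiv (R := Localization.AtPrime (Q.map (algebraMap R S')))
    (IsLocalization.algEquiv Q.primeCompl _ (Localization.AtPrime Q)).toRingEquiv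

section FiniteType

variable {k₀ : Type u} (k : Type u) {C : Type u} [Field k₀] [Field k] [Algebra k₀ k] [Algebra.FormallySmooth k₀ k]
  [CommRing C] [Algebra k C] [Algebra k₀ C] [IsScalarTower k₀ k C] [Algebra.FiniteType k C]

include k in
/-- A presentation by a formally smooth Noetherian algebra. -/
theorem exists_presentation :
    ∃ (P : Type u) (_ : CommRing P) (_ : IsNoetherianRing P) (_ : Algebra k₀ P) (_ : Algebra P C)
      (_ : IsScalarTower k₀ P C), Algebra.FormallySmooth k₀ P ∧ Function.Surjective (algebraMap P C) := by
  obtain ⟨n, f, hf⟩ := Algebra.FiniteType.iff_quotient_mvPolynomial''.mp ‹Algebra.FiniteType k C›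
  letI : Algebra (MvPolynomial (Fin n) k) C := f.toRingHom.toAlgebra
  refine ⟨MvPolynomial (Fin n) k, inferInstance, inferInstance, inferInstance, inferInstance,
    .of_algebraMap_eq fun x => ?_, Algebra.FormallySmooth.comp k₀ k _, hf⟩
  show algebraMap k₀ C x = f (algebraMap k₀ (MvPolynomial (Fin n) k) x)
  rw [IsScalarTower.algebraMap_apply k₀ k (MvPolynomial (Fin n) k), f.commutes,
    ← IsScalarTower.algebraMap_apply]

include k in
theorem formallySmooth_atPrime_of_adic (p : Ideal C) [p.IsPrime]
    (h : CAlgX.IsAdicFormallySmooth k₀ (Localization.AtPrime p) (maximalIdeal (Localization.AtPrime p))) :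
    Algebra.FormallySmooth k₀ (Localization.AtPrime p) := by
  obtain ⟨P, _, _, _, _, _, hP, hs⟩ := exists_presentation (k₀ := k₀) (C := C) k
  haveI := hP
  haveI : Module.Finite P (RingHom.ker (algebraMap P C)).Cotangent :=
    Module.Finite.of_surjective _ (RingHom.ker (algebraMap P C)).toCotangent_surjective
  exact ((S2463.result hs p).out 1 0).mp (JacAdic16.injective_of_adic hs p h)

include k in
theorem exists_away (p : Ideal C) [p.IsPrime] :
    Algebra.FormallySmooth k₀ (Localization.AtPrime p) ↔
      ∃ f : C, f ∉ p ∧ Algebra.FormallySmooth k₀ (Localization.Away f) := by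
  obtain ⟨P, _, _, _, _, _, hP, hs⟩ := exists_presentation (k₀ := k₀) (C := C) k
  haveI := hP
  haveI : Module.Finite P (RingHom.ker (algebraMap P C)).Cotangent :=
    Module.Finite.of_surjective _ (RingHom.ker (algebraMap P C)).toCotangent_surjective
  exact (S2463.result hs p).out 0 2

include k in
theorem formallySmooth_of_forall_maximal
    (h : ∀ (m : Ideal C) [m.IsMaximal], Algebra.FormallySmooth k₀ (Localization.AtPrime m)) :
    Algebra.FormallySmooth k₀ C := by
  obtain ⟨P, _, _, _, _, _, hP, hs⟩ := exists_presentation (k₀ := k₀) (C := C) k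
  haveI := hP
  haveI : Module.Finite P (RingHom.ker (algebraMap P C)).Cotangent :=
    Module.Finite.of_surjective _ (RingHom.ker (algebraMap P C)).toCotangent_surjective
  exact JacCrit.Quotient.formallySmooth_of_forall_maximal hs h

end FiniteType

end Groth.Agent.JacAdic16.GeomReg
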