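import Groth.Agent.JacCrit.Quotient
import Groth.Prelude.Def_CAlgX
import Mathlib

/-!
# The Jacobian criterion from adic formal smoothness of a local ring
-/

set_option autoImplicit false
set_option maxHeartbeats 1000000
set_option linter.style.haveILetI false

universe u

open IsLocalRing
open scoped TensorProduct

namespace Groth.Agent.JacAdic16

open KaehlerDifferential

variable {A B C : Type u} [CommRing A] [CommRing B] [IsNoetherianRing B] [CommRing C] [Algebra A B]
  [Algebra B C] [Algebra A C] [IsScalarTower A B C]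

/-- A derivation test: if `1 ⊗ dj` vanishes residually, then `j` vanishes in the thickening. -/
theorem eq_zero_of_derivation {E : Type u} [CommRing E] [Algebra A E] [Algebra B E] [IsScalarTower A B E]
    {κ : Type u} [CommRing κ] [Algebra B κ] [Algebra C κ] [IsScalarTower B C κ]
    (I : Ideal E) (hI2 : I ^ 2 = ⊥) (g : B →ₐ[A] E) (hD : ∀ b, algebraMap B E b - g b ∈ I)
    (φ : E →+* κ) (hφs : Function.Surjective φ) (hφ : ∀ b, φ (algebraMap B E b) = algebraMap B κ b)
    (hkill : ∀ e, φ e = 0 → ∀ i ∈ I, e * i = 0)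
    (j : RingHom.ker (algebraMap B C)) (hgj : g (j : B) = 0)
    (ht : (1 : κ) ⊗ₜ[B] kerCotangentToTensor A B C ((RingHom.ker (algebraMap B C)).toCotangent j) = 0) :
    algebraMap B E (j : B) = 0 := by
  let D₀ : B → I := fun b => ⟨_, hD b⟩
  have hsm : ∀ (b : B) (i : I), ((b • i : I) : E) = algebraMap B E b * i := fun b i =>
    Algebra.smul_def b (i : E)
  have hD₀mul : ∀ a b, D₀ (a * b) = a • D₀ b + b • D₀ a := fun a b => by
    refine Subtype.ext ?_
    rw [Submodule.coe_add, hsm, hsm]
    show algebraMap B E (a * b) - g (a * b) = algebraMap B E a * (algebraMap B E b - g b) +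
      algebraMap B E b * (algebraMap B E a - g a)
    have h2 : (algebraMap B E a - g a) * (algebraMap B E b - g b) = 0 := by
      have := Ideal.mul_mem_mul (hD a) (hD b)
      rw [← sq, hI2, Ideal.mem_bot] at this
      exact this
    simp only [map_mul]
    linear_combination (-1 : E) * h2
  have hD₀A : ∀ a, D₀ (algebraMap A B a) = 0 := fun a => Subtype.ext (by
    show algebraMap B E (algebraMap A B a) - g (algebraMap A B a) = 0
    rw [g.commutes, ← IsScalarTower.algebraMap_apply, sub_self])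
  let D : Derivation A B I :=
    { toFun := D₀
      map_add' := fun a b => Subtype.ext (by
        show algebraMap B E (a + b) - g (a + b) =
          (algebraMap B E a - g a) + (algebraMap B E b - g b)
        simp only [map_add]
        ring)
      map_smul' := fun a b => by
        rw [RingHom.id_apply, Algebra.smul_def, hD₀mul, hD₀A, smul_zero, add_zero, algebraMap_smul]
      map_one_eq_zero' := by
        show D₀ 1 = 0
        rw [← map_one (algebraMap A B)]
        exact hD₀A 1
      leibniz' := hD₀mul }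
  have hφker : RingHom.ker φ ≤ RingHom.ker (Module.toAddMonoidEnd E I) := fun r hr =>
    AddMonoidHom.ext fun i => Subtype.ext (hkill r hr i i.2)
  let Φ : κ →+* AddMonoid.End I := RingHom.liftOfSurjective φ hφs ⟨Module.toAddMonoidEnd E I, hφker⟩
  letI : Module κ I := Module.compHom I Φ
  have hΦ : ∀ (r : E) (i : I), φ r • i = r • i := fun r i =>
    DFunLike.congr_fun (RingHom.liftOfRightInverse_comp_apply φ (Function.surjInv hφs)
      (Function.rightInverse_surjInv hφs) ⟨Module.toAddMonoidEnd E I, hφker⟩ r) i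
  haveI : IsScalarTower B κ I := IsScalarTower.of_algebraMap_smul fun b i => by
    rw [← hφ, hΦ, algebraMap_smul]
  letI : Module C I := Module.compHom I (algebraMap C κ)
  haveI : IsScalarTower B C I := IsScalarTower.of_algebraMap_smul fun b i => by
    show algebraMap C κ (algebraMap B C b) • i = b • i
    rw [← IsScalarTower.algebraMap_apply, algebraMap_smul]
  let L : C ⊗[B] Ω[B⁄A] →ₗ[B] I :=
    TensorProduct.lift ((LinearMap.lsmul C I).restrictScalars₁₂ B B |>.compl₂ D.liftKaehlerDifferential)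
  let M : κ ⊗[B] (C ⊗[B] Ω[B⁄A]) →ₗ[B] I :=
    TensorProduct.lift ((LinearMap.lsmul κ I).restrictScalars₁₂ B B |>.compl₂ L)
  have h2 := congrArg M ht
  rw [map_zero] at h2
  have h3 : D₀ (j : B) = 0 := by
    rw [← h2]
    show D₀ j = (1 : κ) • L (kerCotangentToTensor A B C ((RingHom.ker (algebraMap B C)).toCotangent j))
    rw [one_smul, kerCotangentToTensor_toCotangent]
    show D₀ j = (1 : C) • D.liftKaehlerDifferential (KaehlerDifferential.D A B j)
    rw [one_smul, Derivation.liftKaehlerDifferential_comp_D]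
    rfl
  have h5 : algebraMap B E (j : B) - g (j : B) = 0 := congrArg Subtype.val h3
  rwa [hgj, sub_zero] at h5

/-- Adic formal smoothness of `C_p` gives injectivity of the residual conormal map. -/
theorem injective_of_adic (hsurj : Function.Surjective (algebraMap B C)) (p : Ideal C) [p.IsPrime]
    (h : CAlgX.IsAdicFormallySmooth A (Localization.AtPrime p) (maximalIdeal (Localization.AtPrime p))) :
    Function.Injective ((kerCotangentToTensor A B C).lTensor p.ResidueField) := by
  classical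
  let P' : Ideal B := p.comap (algebraMap B C)
  let R := Localization.AtPrime P'
  let Cp := Localization.AtPrime p
  let κ := p.ResidueField
  let J : Ideal B := RingHom.ker (algebraMap B C)
  let ρ : R →+* Cp := Localization.localRingHom P' p (algebraMap B C) rfl
  have hρ : ∀ b, ρ (algebraMap B R b) = algebraMap C Cp (algebraMap B C b) := fun b =>
    Localization.localRingHom_to_map P' p (algebraMap B C) rfl b
  have hρA : ∀ a, ρ (algebraMap A R a) = algebraMap A Cp a := fun a => by
    rw [IsScalarTower.algebraMap_apply A B R, hρ, IsScalarTower.algebraMap_apply A C Cp,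
      IsScalarTower.algebraMap_apply A B C]
  have hρs : Function.Surjective ρ := fun x => by
    obtain ⟨c, s, rfl⟩ := IsLocalization.exists_mk'_eq p.primeCompl x
    obtain ⟨b, rfl⟩ := hsurj c
    obtain ⟨t, ht⟩ := hsurj s
    have htP : t ∈ P'.primeCompl := fun htp => s.2 (ht ▸ htp)
    refine ⟨IsLocalization.mk' R b (⟨t, htP⟩ : P'.primeCompl), ?_⟩
    rw [eq_comm, IsLocalization.mk'_eq_iff_eq_mul, ← ht, ← hρ t, ← map_mul,
      IsLocalization.mk'_spec, hρ]
  let JR : Ideal R := J.map (algebraMap B R)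
  have hρk : RingHom.ker ρ = JR := by
    refine le_antisymm (fun x hx => ?_) (Ideal.map_le_iff_le_comap.mpr fun b hb => by
      rw [Ideal.mem_comap, RingHom.mem_ker, hρ, RingHom.mem_ker.mp hb, map_zero])
    obtain ⟨b, s, rfl⟩ := IsLocalization.exists_mk'_eq P'.primeCompl x
    have h1 : algebraMap C Cp (algebraMap B C b) = 0 := by
      rw [← hρ, ← IsLocalization.mk'_spec R b s, map_mul, RingHom.mem_ker.mp hx, zero_mul]
    obtain ⟨m, hm⟩ := (IsLocalization.map_eq_zero_iff p.primeCompl Cp _).mp h1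
    obtain ⟨t, ht⟩ := hsurj m
    have htP : t ∈ P'.primeCompl := fun htp => m.2 (ht ▸ htp)
    refine (IsLocalization.mk'_mem_iff (S := R)).mpr ?_
    have h2 : algebraMap B R (t * b) ∈ JR := Ideal.mem_map_of_mem _ (by
      rw [RingHom.mem_ker, map_mul, ht, hm])
    rw [map_mul] at h2
    exact (Ideal.unit_mul_mem_iff_mem _ (IsLocalization.map_units R (⟨t, htP⟩ : P'.primeCompl))).mp h2
  have hJR : JR ≤ maximalIdeal R := hρk ▸ le_maximalIdeal (RingHom.ker_ne_top ρ)
  -- Artin–Rees
  obtain ⟨k₀, hk₀⟩ := Ideal.exists_pow_inf_eq_pow_smul (maximalIdeal R) (M := R) JR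
  let N := k₀ + 1
  have hAR : ∀ x ∈ maximalIdeal R ^ N, x ∈ JR → x ∈ maximalIdeal R * JR := fun x hx hx' => by
    have h2 := hk₀ N (Nat.le_add_right _ _)
    rw [show N - k₀ = 1 from Nat.add_sub_cancel_left _ _, pow_one] at h2
    have h1 : x ∈ (maximalIdeal R • (maximalIdeal R ^ k₀ • ⊤ ⊓ JR) : Submodule R R) := by
      rw [← h2]
      exact ⟨by rw [smul_eq_mul, Ideal.mul_top]; exact hx, hx'⟩
    exact Submodule.smul_mono le_rfl inf_le_right h1
  let H : Ideal R := maximalIdeal R * JR ⊔ maximalIdeal R ^ N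
  let q : R →+* R ⧸ H := Ideal.Quotient.mk H
  let I : Ideal (R ⧸ H) := (JR ⊔ maximalIdeal R ^ N).map q
  have hpowle : maximalIdeal R ^ N ≤ maximalIdeal R := Ideal.pow_le_self (Nat.succ_ne_zero k₀)
  have hmI : ∀ r ∈ maximalIdeal R, ∀ i ∈ I, q r * i = 0 := fun r hr i hi => by
    obtain ⟨y, hy, rfl⟩ := (Ideal.mem_map_iff_of_surjective q Ideal.Quotient.mk_surjective).mp hi
    rw [← map_mul]
    refine Ideal.Quotient.eq_zero_iff_mem.mpr ?_
    obtain ⟨j, hj, z, hz, rfl⟩ := Submodule.mem_sup.mp hy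
    rw [mul_add]
    exact add_mem (Submodule.mem_sup_left (Ideal.mul_mem_mul hr hj))
      (Submodule.mem_sup_right (Ideal.mul_mem_left _ _ hz))
  have hI2 : I ^ 2 = ⊥ := by
    rw [eq_bot_iff, sq, Ideal.mul_le]
    intro x hx y hy
    obtain ⟨x', hx', rfl⟩ := (Ideal.mem_map_iff_of_surjective q Ideal.Quotient.mk_surjective).mp hx
    exact Ideal.mem_bot.mpr (hmI x' (sup_le hJR hpowle hx') y hy)
  -- the test map
  let qq : R →+* (R ⧸ H) ⧸ I := (Ideal.Quotient.mk I).comp q
  have hker : RingHom.ker ρ ≤ RingHom.ker qq := fun x hx =>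
    Ideal.Quotient.eq_zero_iff_mem.mpr (Ideal.mem_map_of_mem q (Submodule.mem_sup_left (hρk ▸ hx)))
  let ψ₀ : Cp →+* (R ⧸ H) ⧸ I := RingHom.liftOfSurjective ρ hρs ⟨qq, hker⟩
  have hψ₀ : ∀ x, ψ₀ (ρ x) = qq x := fun x => RingHom.liftOfRightInverse_comp_apply ρ _ _ ⟨qq, hker⟩ x
  let ψ : Cp →ₐ[A] (R ⧸ H) ⧸ I :=
    { ψ₀ with commutes' := fun a => by rw [← hρA]; exact hψ₀ _ }
  have hψc : ∃ n : ℕ, ∀ x ∈ maximalIdeal Cp ^ n, ψ x = 0 := ⟨N, fun x hx => by
    rw [← IsLocalRing.map_maximalIdeal_of_surjective ρ hρs, ← Ideal.map_pow] at hx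
    obtain ⟨y, hy, rfl⟩ := (Ideal.mem_map_iff_of_surjective ρ hρs).mp hx
    exact (hψ₀ y).trans
      (Ideal.Quotient.eq_zero_iff_mem.mpr (Ideal.mem_map_of_mem q (Submodule.mem_sup_right hy)))⟩
  obtain ⟨χ, hχ⟩ := h (R ⧸ H) I hI2 ψ hψc
  -- residue field
  let φ₀ : R →+* κ := (residue Cp).comp ρ
  have hφs : Function.Surjective φ₀ := residue_surjective.comp hρs
  have hφk : RingHom.ker φ₀ ≤ maximalIdeal R := le_maximalIdeal (RingHom.ker_ne_top φ₀)
  have hφH : ∀ r ∈ H, φ₀ r = 0 := fun r hr => by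
    by_contra hne
    have hu : ¬ IsUnit r := (mem_maximalIdeal r).mp (sup_le Ideal.mul_le_left hpowle hr)
    haveI : IsLocalHom φ₀ := IsLocalHom.of_surjective φ₀ hφs
    exact hu (isUnit_of_map_unit φ₀ r (isUnit_iff_ne_zero.mpr hne))
  have hBκ : ∀ b, algebraMap B κ b = φ₀ (algebraMap B R b) := fun b => by
    show _ = residue Cp (ρ (algebraMap B R b))
    rw [hρ, IsScalarTower.algebraMap_apply B C κ, IsScalarTower.algebraMap_apply C Cp κ]
    rfl
  let g : B →ₐ[A] R ⧸ H :=
    { χ.toRingHom.comp (ρ.comp (algebraMap B R)) with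
      commutes' := fun a => by
        show χ (ρ (algebraMap B R (algebraMap A B a))) = _
        rw [← IsScalarTower.algebraMap_apply A B R, hρA, χ.commutes] }
  have hD : ∀ b : B, algebraMap B (R ⧸ H) b - g b ∈ I := fun b =>
    Ideal.Quotient.eq.mp ((hψ₀ _).symm.trans (DFunLike.congr_fun hχ _).symm)
  rw [injective_iff_map_eq_zero]
  intro t ht
  -- reduce to a single element
  have hgen : ∀ t : κ ⊗[B] J.Cotangent, ∃ (s : B) (j : J), s ∉ P' ∧ s • t = 1 ⊗ₜ J.toCotangent j := by
    intro t
    induction t with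
    | zero => exact ⟨1, 0, fun h1 => (Ideal.IsPrime.ne_top ‹p.IsPrime›)
        ((Ideal.eq_top_iff_one _).mpr (by simpa [P'] using h1)), by simp⟩
    | add a b ha hb =>
      obtain ⟨s, j, hs, hj⟩ := ha
      obtain ⟨s', j', hs', hj'⟩ := hb
      refine ⟨s * s', s' • j + s • j', fun h1 => (Ideal.IsPrime.mem_or_mem inferInstance h1).elim hs hs', ?_⟩
      rw [map_add, map_smul, map_smul, TensorProduct.tmul_add, TensorProduct.tmul_smul,
        TensorProduct.tmul_smul, ← hj, ← hj', smul_smul, smul_smul, smul_add, mul_comm s' s]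
    | tmul c z =>
      obtain ⟨j, rfl⟩ := J.toCotangent_surjective z
      obtain ⟨x, rfl⟩ := hφs c
      obtain ⟨b, s, rfl⟩ := IsLocalization.exists_mk'_eq P'.primeCompl x
      refine ⟨s, b • j, s.2, ?_⟩
      rw [TensorProduct.smul_tmul', map_smul, TensorProduct.tmul_smul, TensorProduct.smul_tmul']
      congr 1
      rw [Algebra.smul_def, Algebra.smul_def, mul_one, hBκ, hBκ, ← map_mul, mul_comm,
        IsLocalization.mk'_spec]
  obtain ⟨s, j, hs, hst⟩ := hgen t
  have hunit : IsUnit (algebraMap B κ s) := by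
    rw [hBκ]
    exact (IsLocalization.map_units R (⟨s, hs⟩ : P'.primeCompl)).map φ₀
  suffices h0 : (1 : κ) ⊗ₜ[B] J.toCotangent j = 0 by
    have h1 : algebraMap B κ s • t = 0 := by rw [algebraMap_smul, hst, h0]
    exact (hunit.smul_eq_zero).mp h1
  have ht' : (1 : κ) ⊗ₜ[B] kerCotangentToTensor A B C (J.toCotangent j) = 0 := by
    have := congrArg (fun z => s • z) ht
    simp only [smul_zero, ← map_smul, hst, LinearMap.lTensor_tmul] at this
    exact this
  have h4 : algebraMap B R (j : B) ∈ H := by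
    refine Ideal.Quotient.eq_zero_iff_mem.mp ?_
    refine eq_zero_of_derivation (A := A) (C := C) I hI2 g hD (Ideal.Quotient.lift H φ₀ hφH)
      (fun c => ?_) (fun b => (hBκ b).symm) (fun e he i hi => ?_) j ?_ ht'
    · obtain ⟨r, rfl⟩ := hφs c
      exact ⟨Ideal.Quotient.mk H r, rfl⟩
    · obtain ⟨r, rfl⟩ := Ideal.Quotient.mk_surjective e
      exact hmI r (hφk (RingHom.mem_ker.mpr he)) i hi
    · show χ (ρ (algebraMap B R (j : B))) = 0
      rw [RingHom.mem_ker.mp (show algebraMap B R (j : B) ∈ RingHom.ker ρ from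
        hρk ▸ Ideal.mem_map_of_mem _ j.2), map_zero]
  have h6 : algebraMap B R (j : B) ∈ (P' * J).map (algebraMap B R) := by
    rw [Ideal.map_mul, Localization.AtPrime.map_eq_maximalIdeal]
    obtain ⟨y, hy, z, hz, hyz⟩ := Submodule.mem_sup.mp h4
    rw [← hyz]
    refine add_mem hy (hAR z hz ?_)
    rw [eq_sub_of_add_eq' hyz]
    exact sub_mem (Ideal.mem_map_of_mem _ j.2) (Ideal.mul_le_right hy)
  obtain ⟨w, hw, hw'⟩ := (IsLocalization.algebraMap_mem_map_algebraMap_iff P'.primeCompl R _ _).mp h6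
  have h7 : ∀ z ∈ P' * J, ∀ hz : z ∈ J, (1 : κ) ⊗ₜ[B] J.toCotangent ⟨z, hz⟩ = 0 := by
    intro z hz
    induction hz using Submodule.mul_induction_on' with
    | mem_mul_mem m hm n hn =>
      intro hz
      rw [show (⟨m * n, hz⟩ : J) = m • ⟨n, hn⟩ from rfl, map_smul, TensorProduct.tmul_smul,
        TensorProduct.smul_tmul']
      have hm0 : algebraMap B κ m = 0 := by
        rw [IsScalarTower.algebraMap_apply B C κ]
        exact (Ideal.algebraMap_residueField_eq_zero).mpr hm
      rw [Algebra.smul_def, hm0, zero_mul, TensorProduct.zero_tmul]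
    | add x hx y hy ihx ihy =>
      intro hz
      rw [show (⟨x + y, hz⟩ : J) = ⟨x, Ideal.mul_le_right hx⟩ + ⟨y, Ideal.mul_le_right hy⟩ from rfl,
        map_add, TensorProduct.tmul_add, ihx, ihy, add_zero]
  have h8 := h7 _ hw' (J.mul_mem_left _ j.2)
  rw [show (⟨w * (j : B), J.mul_mem_left _ j.2⟩ : J) = w • j from rfl, map_smul,
    TensorProduct.tmul_smul, ← algebraMap_smul κ w] at h8
  refine (IsUnit.smul_eq_zero ?_).mp h8
  rw [hBκ]
  exact (IsLocalization.map_units R (⟨w, hw⟩ : P'.primeCompl)).map φ₀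

end Groth.Agent.JacAdic16
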